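import Groth.Agent.S17775
import Groth.Agent.LC.Matlis
import Groth.Agent.LC.LiaisonLocal
import Groth.Agent.LC.LiaisonGlobal
import Groth.Agent.TorDiag.Local

/-!
# Lengths of linked quotients in an Artinian Gorenstein ring
-/

set_option autoImplicit false

namespace Groth.Agent.H1LiaisonDeg

universe u

open IsLocalRing TensorProduct

/-- In a zero-dimensional Gorenstein ring the length of `A` is the sum of those of `A/a` and `A/(0:a)`. -/
theorem length_eq_add (A : Type u) [CommRing A] [LocCoh.IsGorensteinLocalRing A] (hA : ringKrullDim A = 0)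
    (a : Ideal A) : Module.length A A = Module.length A (A ⧸ a) + Module.length A (A ⧸ a.annihilator) := by
  classical
  haveI : Ring.KrullDimLE 0 A := ⟨hA.le⟩
  haveI : IsArtinianRing A := isArtinianRing_iff_isNoetherianRing_krullDimLE_zero.2 ⟨inferInstance, inferInstance⟩
  obtain ⟨f, hf⟩ := S17775.result A 0 (by rw [hA]; rfl) Fin.elim0 (by
    rw [Set.range_eq_empty, Ideal.span_empty, Ideal.radical_eq_sInf]
    refine le_antisymm (sInf_le ⟨bot_le, inferInstance⟩) (le_sInf fun q hq => ?_)
    haveI := hq.2
    exact le_of_eq (IsLocalRing.eq_maximalIdeal (Ideal.IsPrime.isMaximal' hq.2)).symm)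
  let L := Localization.Away (∏ i : Fin 0, (Fin.elim0 i : A))
  let N : Submodule A L := Submodule.span A {y : L | ∃ (i : Fin 0) (n : ℕ),
    y = algebraMap A L (Fin.elim0 i ^ n) * IsLocalization.Away.invSelf (∏ i : Fin 0, (Fin.elim0 i : A)) ^ n}
  have hN : N = ⊥ := Submodule.span_eq_bot.2 (by rintro _ ⟨i, -, -⟩; exact i.elim0)
  have hbij : Function.Bijective (algebraMap A L) :=
    (IsLocalization.atUnits A (Submonoid.powers (∏ i : Fin 0, (Fin.elim0 i : A))) (fun x hx => by
      obtain ⟨n, rfl⟩ := hx
      show IsUnit ((∏ i : Fin 0, (Fin.elim0 i : A)) ^ n)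
      simp)).bijective
  let eE : A ≃ₗ[A] (L ⧸ N) :=
    (LinearEquiv.ofBijective (Algebra.linearMap A L) hbij).trans (Submodule.quotEquivOfEqBot N hN).symm
  let e : ((A ⧸ a) →ₗ[A] (L ⧸ N)) ≃ₗ[A] ↥(a.annihilator) :=
    (LinearEquiv.congrRight eE.symm).trans
    { toFun := fun φ => ⟨φ (Submodule.Quotient.mk 1), Submodule.mem_annihilator.2 fun r hr => by
        rw [smul_eq_mul, mul_comm, ← smul_eq_mul, ← map_smul, ← Submodule.Quotient.mk_smul, smul_eq_mul, mul_one,
          (Submodule.Quotient.mk_eq_zero a).2 hr, map_zero]⟩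
      map_add' := fun _ _ => rfl
      map_smul' := fun _ _ => rfl
      invFun := fun z => Submodule.liftQ a (LinearMap.toSpanSingleton A A z.1) fun r hr => by
        rw [LinearMap.mem_ker, LinearMap.toSpanSingleton_apply, smul_eq_mul, mul_comm, ← smul_eq_mul]
        exact Submodule.mem_annihilator.1 z.2 r hr
      left_inv := fun φ => Submodule.linearMap_qext _ (LinearMap.ext_ring (by simp))
      right_inv := fun z => Subtype.ext (by
        show LinearMap.toSpanSingleton A A z.1 1 = _
        simp) }
  have h1 : Module.length A ↥(a.annihilator) = Module.length A (A ⧸ a) := by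
    rw [← e.length_eq]
    exact LC.length_dual hf (A ⧸ a) (isFiniteLength_iff_isNoetherian_isArtinian.2 ⟨inferInstance, inferInstance⟩)
  rw [Module.length_eq_add_of_exact a.annihilator.subtype (Submodule.mkQ a.annihilator)
    (Submodule.subtype_injective _) (Submodule.mkQ_surjective _) (LinearMap.exact_subtype_mkQ _), h1]

variable {S : Type u} [CommRing S]

theorem length_localizedModule (I : Ideal S) (q : Ideal S) [q.IsPrime] :
    Module.length (Localization.AtPrime q) (LocalizedModule q.primeCompl (S ⧸ I)) =
      Module.length (Localization.AtPrime q)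
        (Localization.AtPrime q ⧸ I.map (algebraMap S (Localization.AtPrime q))) :=
  ((LocalizedModule.equivTensorProduct q.primeCompl (S ⧸ I)).trans
    (Algebra.TensorProduct.quotIdealMapEquivTensorQuot (Localization.AtPrime q) I).symm.toLinearEquiv).length_eq

theorem length_quotient_map {L B : Type u} [CommRing L] [CommRing B] (ψ : L →+* B) (hψ : Function.Surjective ψ)
    (J : Ideal L) (hJ : RingHom.ker ψ ≤ J) :
    Module.length L (L ⧸ J) = Module.length B (B ⧸ J.map ψ) := by
  haveI : RingHomSurjective ψ := ⟨hψ⟩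
  have hc : J = (J.map ψ).comap ψ := by
    rw [Ideal.comap_map_of_surjective' ψ hψ, sup_eq_left.2 hJ]
  let f : (L ⧸ J) →ₛₗ[ψ] (B ⧸ J.map ψ) :=
    { toFun := Ideal.quotientMap (J.map ψ) ψ hc.le
      map_add' := map_add _
      map_smul' := fun r x => by
        obtain ⟨y, rfl⟩ := Ideal.Quotient.mk_surjective x
        show Ideal.quotientMap (J.map ψ) ψ hc.le (Ideal.Quotient.mk J (r * y)) = _
        rw [Ideal.quotientMap_mk, map_mul]
        rfl }
  exact TorDiag.length_eq_of_semilinear f ⟨Ideal.quotientMap_injective' (H := hc.le) hc.ge,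
    Ideal.quotientMap_surjective (H := hc.le) hψ⟩

/-- Multiplicities at a minimal prime of `c` are additive under linkage. -/
theorem length_linked [IsNoetherianRing S] (c I J : Ideal S) (hcI : c ≤ I)
    (hJ : J = c.colon (I : Set S)) [LocCoh.IsGorensteinRing (S ⧸ c)] (q : Ideal S) [q.IsPrime]
    (hq : q ∈ c.minimalPrimes) :
    Module.length (Localization.AtPrime q) (LocalizedModule q.primeCompl (S ⧸ c)) =
      Module.length (Localization.AtPrime q) (LocalizedModule q.primeCompl (S ⧸ I)) +
      Module.length (Localization.AtPrime q) (LocalizedModule q.primeCompl (S ⧸ J)) := by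
  let φ := Ideal.Quotient.mk c
  have hcq : c ≤ q := hq.1.2
  have hcJ : c ≤ J := hJ ▸ fun x hx => Submodule.mem_colon.2 fun s _ => c.mul_mem_right s hx
  let q' := q.map φ
  haveI : q'.IsPrime := Ideal.map_isPrime_of_surjective Ideal.Quotient.mk_surjective (by rwa [Ideal.mk_ker])
  have hq' : q = q'.comap φ := by
    rw [Ideal.comap_map_of_surjective' _ Ideal.Quotient.mk_surjective, Ideal.mk_ker, sup_eq_left.2 hcq]
  let B := Localization.AtPrime q'
  haveI := LocCoh.IsGorensteinRing.isGorensteinLocalRing_localization (A := S ⧸ c) q'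
  have hdim : ringKrullDim B = 0 := by
    rw [IsLocalization.AtPrime.ringKrullDim_eq_height q' B,
      Ideal.height_eq_zero_iff.2 (LC.Liaison.minimal_map_mk hq)]
    rfl
  let ψ := Localization.localRingHom q q' φ hq'
  have hψ : Function.Surjective ψ := LC.Liaison.surjective_localRingHom φ q' q hq' Ideal.Quotient.mk_surjective
  have hker : RingHom.ker ψ = c.map (algebraMap S (Localization.AtPrime q)) := by
    rw [LC.Liaison.ker_localRingHom φ Ideal.Quotient.mk_surjective q' q hq', Ideal.mk_ker]
  have hcomp : ψ.comp (algebraMap S (Localization.AtPrime q)) = (algebraMap (S ⧸ c) B).comp φ :=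
    RingHom.ext fun s => Localization.localRingHom_to_map _ _ _ hq' s
  have key : ∀ K : Ideal S, c ≤ K →
      Module.length (Localization.AtPrime q) (LocalizedModule q.primeCompl (S ⧸ K)) =
        Module.length B (B ⧸ (K.map φ).map (algebraMap (S ⧸ c) B)) := fun K hK => by
    rw [length_localizedModule K q, length_quotient_map ψ hψ _ (hker.le.trans (Ideal.map_mono hK)), Ideal.map_map,
      hcomp, ← Ideal.map_map]
  have hann : J.map φ = Submodule.annihilator (I.map φ) := by
    ext x
    obtain ⟨y, rfl⟩ := Ideal.Quotient.mk_surjective x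
    rw [Ideal.mem_quotient_iff_mem hcJ, hJ, Submodule.mem_colon, Submodule.mem_annihilator]
    constructor
    · intro h r hr
      obtain ⟨s, hs, rfl⟩ := (Ideal.mem_map_iff_of_surjective φ Ideal.Quotient.mk_surjective).1 hr
      exact (map_mul φ y s).symm.trans (Ideal.Quotient.eq_zero_iff_mem.2 (h s hs))
    · intro h s hs
      exact Ideal.Quotient.eq_zero_iff_mem.1 ((map_mul φ y s).trans (h _ (Ideal.mem_map_of_mem φ hs)))
  rw [key c le_rfl, key I hcI, key J hcJ, hann, ← LC.Liaison.annihilator_map, Ideal.map_quotient_self,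
    Ideal.map_bot, (Submodule.quotEquivOfEqBot (⊥ : Ideal B) rfl).length_eq]
  exact length_eq_add B hdim _

end Groth.Agent.H1LiaisonDeg
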