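import Groth.Agent.H1LiaisonDeg.Local
import Groth.Agent.HilbGr.Mult
import Groth.Agent.GrLib8.HilbertFn

/-!
# The degree of a linked ideal
-/

set_option autoImplicit false

namespace Groth.Agent.H1LiaisonDeg

universe u

open MvPolynomial HilbGr

variable {K : Type u} [Field K] {n : ℕ}

local notation "S" => MvPolynomial (Fin (n + 1)) K

theorem stdGr_neg {z : ℤ} (hz : z < 0) {p : S} (hp : p ∈ GrSyz.stdGr K (Fin (n + 1)) z) : p = 0 := by
  rw [GrSyz.mem_stdGr_iff] at hp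
  by_contra h
  obtain ⟨e, he⟩ := MvPolynomial.ne_zero_iff.1 h
  have h1 := hp he
  rw [Finsupp.weight_apply, Finsupp.sum] at h1
  have h2 : (0 : ℤ) ≤ ∑ i ∈ e.support, e i • (1 : ℤ) := Finset.sum_nonneg fun i _ => by simp
  omega

theorem isHomogeneous_of_stdGr {I : Ideal S} (h : I.IsHomogeneous (GrSyz.stdGr K (Fin (n + 1)))) :
    I.IsHomogeneous (CohB1.polyGrading n K) := by
  obtain ⟨T, rfl⟩ := (Ideal.IsHomogeneous.iff_exists _ _).1 h
  refine Ideal.homogeneous_span _ _ ?_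
  rintro _ ⟨⟨x, z, hz⟩, -, rfl⟩
  rcases lt_or_ge z 0 with hneg | hpos
  · exact ⟨0, (stdGr_neg hneg hz).symm ▸ Submodule.zero_mem _⟩
  · obtain ⟨m, rfl⟩ := Int.eq_ofNat_of_zero_le hpos
    rw [GrLib8.stdGr_natCast] at hz
    exact ⟨m, hz⟩

theorem isHomogeneous_colon {c I : Ideal S} (hc : c.IsHomogeneous (CohB1.polyGrading n K))
    (hI : I.IsHomogeneous (CohB1.polyGrading n K)) :
    (c.colon (I : Set S)).IsHomogeneous (CohB1.polyGrading n K) := by
  classical
  intro i f hf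
  rw [Submodule.mem_colon] at hf ⊢
  intro g hg
  rw [smul_eq_mul, ← DirectSum.sum_support_decompose (CohB1.polyGrading n K) g, Finset.mul_sum]
  refine Submodule.sum_mem _ fun e _ => ?_
  let ge : S := (DirectSum.decompose (CohB1.polyGrading n K) g e : S)
  have h1 : f * ge ∈ c := hf ge (hI e hg)
  have h2 := hc (i + e) h1
  rw [DirectSum.coe_decompose_mul_of_right_mem_of_le (CohB1.polyGrading n K) (SetLike.coe_mem _)
    (Nat.le_add_left e i), Nat.add_sub_cancel] at h2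
  exact h2

theorem finrank_map_eq (I : Ideal S) (j : ℕ) :
    Module.finrank K ↥(Submodule.map (Ideal.Quotient.mkₐ K I).toLinearMap (GrSyz.stdGr K (Fin (n + 1)) (j : ℤ))) =
      hfun I j := by
  rw [GrLib8.stdGr_natCast]
  let f : ↥(CohB1.polyGrading n K j) →ₗ[K] S ⧸ I :=
    (Ideal.Quotient.mkₐ K I).toLinearMap ∘ₗ (CohB1.polyGrading n K j).subtype
  have hk : LinearMap.ker f = (Submodule.restrictScalars K I).comap (CohB1.polyGrading n K j).subtype := by
    ext x
    exact Ideal.Quotient.eq_zero_iff_mem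
  have hr : LinearMap.range f = Submodule.map (Ideal.Quotient.mkₐ K I).toLinearMap (CohB1.polyGrading n K j) := by
    rw [LinearMap.range_comp, Submodule.range_subtype]
  rw [hfun, ← hk, f.quotKerEquivRange.finrank_eq, hr]

theorem isHP_of_eventually {I : Ideal S} {p : Polynomial ℚ}
    (hp : ∃ j₀ : ℕ, ∀ j : ℕ, j₀ ≤ j → (Module.finrank K ↥(Submodule.map (Ideal.Quotient.mkₐ K I).toLinearMap
      (GrSyz.stdGr K (Fin (n + 1)) (j : ℤ))) : ℚ) = p.eval (j : ℚ)) : IsHP I p := by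
  obtain ⟨j₀, h⟩ := hp
  exact ⟨j₀, fun j hj => by rw [← h j hj, finrank_map_eq]⟩

theorem dim_quot_le (c : ℕ) (I : Ideal S) (hI : (c : ℕ∞) ≤ I.height) (t : ℕ) (ht : n + 1 ≤ c + (t + 1)) :
    ringKrullDim (S ⧸ I) ≤ ((t + 1 : ℕ) : WithBot ℕ∞) := by
  rw [ringKrullDim_quotient, Order.krullDim_eq_iSup_coheight]
  refine iSup_le fun q => WithBot.coe_le_coe.2 ?_
  refine (Order.coheight_le_coheight_apply_of_strictMono Subtype.val (Subtype.strictMono_coe _) q).trans ?_
  have h1 := VarDim.height_add_coheight_le (R := S) q.1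
  rw [MvPolynomial.ringKrullDim_of_isNoetherianRing, ringKrullDim_eq_zero_of_field, zero_add, Nat.card_fin] at h1
  have h2 : Order.height q.1 + Order.coheight q.1 ≤ ((n + 1 : ℕ) : ℕ∞) := by exact_mod_cast h1
  have h3 : (c : ℕ∞) ≤ Order.height q.1 := by
    have := hI.trans (Ideal.height_mono (show I ≤ q.1.asIdeal from q.2))
    rwa [PrimeSpectrum.height_eq_orderHeight] at this
  have hh : Order.height q.1 ≠ ⊤ := fun h => by rw [h, top_add] at h2; exact ENat.natCast_ne_top _ (top_le_iff.1 h2)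
  have hk : Order.coheight q.1 ≠ ⊤ := fun h => by rw [h, add_top] at h2; exact ENat.natCast_ne_top _ (top_le_iff.1 h2)
  obtain ⟨a, ha⟩ := ENat.ne_top_iff_exists.1 hh
  obtain ⟨b, hb⟩ := ENat.ne_top_iff_exists.1 hk
  rw [← ha, ← hb] at h2
  rw [← ha] at h3
  rw [← hb]
  norm_cast at h2 h3 ⊢
  omega

theorem coeff_linked (c : ℕ) (hcn : c ≤ n) (C I : Ideal S)
    (hC : C.IsHomogeneous (CohB1.polyGrading n K)) (hI : I.IsHomogeneous (CohB1.polyGrading n K))
    [LocCoh.IsGorensteinRing (S ⧸ C)] (hCc : C.height = c) (hCI : C ≤ I) :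
    (hpol (C.colon (I : Set S))).coeff (n - c) = (hpol C).coeff (n - c) - (hpol I).coeff (n - c) := by
  classical
  let J := C.colon (I : Set S)
  have hCJ : C ≤ J := fun x hx => Submodule.mem_colon.2 fun s _ => C.mul_mem_right s hx
  let t := n - c
  have hdim : ∀ X : Ideal S, C ≤ X → ringKrullDim (S ⧸ X) ≤ ((t + 1 : ℕ) : WithBot ℕ∞) := fun X hX =>
    dim_quot_le c X (by rw [← hCc]; exact Ideal.height_mono hX) t (by omega)
  let T' : Set (PrimeSpectrum S) :=
    {q | C ≤ q.asIdeal ∧ ringKrullDim (S ⧸ q.asIdeal) = ((t + 1 : ℕ) : WithBot ℕ∞)}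
  have hmin : ∀ q ∈ T', q.asIdeal ∈ C.minimalPrimes := fun q hq => by
    obtain ⟨P, hP, hPq⟩ := Ideal.exists_minimalPrimes_le hq.1
    have hP' := hP.1.1
    have := eq_of_dim_le (p := ⟨P, hP'⟩) (q := q) hPq (hdim P hP.1.2) hq.2
    rw [← this]
    exact hP
  have hfin : T'.Finite :=
    ((Ideal.finite_minimalPrimes_of_isNoetherianRing S C).preimage
      (fun a _ b _ h => PrimeSpectrum.ext h : Set.InjOn PrimeSpectrum.asIdeal _)).subset hmin
  have hT : ∀ q ∈ hfin.toFinset, ringKrullDim (S ⧸ q.asIdeal) = ((t + 1 : ℕ) : WithBot ℕ∞) := fun q hq =>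
    (hfin.mem_toFinset.1 hq).2
  have happ := fun (X : Ideal S) (hX : X.IsHomogeneous (CohB1.polyGrading n K)) (hle : C ≤ X) =>
    assoc t hfin.toFinset hT X hX (hdim X hle) fun q hq hd => hfin.mem_toFinset.2 ⟨hle.trans hq, hd⟩
  obtain ⟨f1, e1⟩ := happ C hC le_rfl
  obtain ⟨f2, e2⟩ := happ I hI hCI
  obtain ⟨f3, e3⟩ := happ J (isHomogeneous_colon hC hI) hCJ
  show (hpol J).coeff t = _
  rw [e1, e2, e3, ← Finset.sum_sub_distrib]
  refine Finset.sum_congr rfl fun q hq => ?_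
  have h : mult C q = mult I q + mult J q :=
    length_linked C I J hCI rfl q.asIdeal (hmin q (hfin.mem_toFinset.1 hq))
  rw [h, ENat.toNat_add (f2 q hq) (f3 q hq)]
  push_cast
  ring

end Groth.Agent.H1LiaisonDeg
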